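import Cfsg.Agent.H332.EB.Two_m3
import Cfsg.Agent.H710.R4.RowHe
import Cfsg.Agent.H394.PBHe
import Cfsg.Agent.H652.Four.Crit
import Cfsg.Agent.S0887
import Cfsg.Agent.Prune
set_option linter.all false
prune_inst 0x7f00000000000000000000000000000000000000000000000000000000000000000000000000000000000000000000000000000000000000000000000000000000000000000000000000000000000000003fffffffffffffffffffffffffffbeffbdffffffff
open scoped Cfsg.Agent.FastGrp

/-!
# S4522, the row of the Held group

The rational character of degree `680 = 8·5·17` of the action on 2058 points (of `He` and of `Aut He`) is in the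
principal 2-block: the number of conjugates of an element `≠ 1` of odd order is a multiple of `2 ^ 7`, while
`2 ^ 4` does not divide the degree.
-/

set_option autoImplicit false
set_option maxRecDepth 100000

namespace Cfsg.Agent.H84.EB

open Cfsg Cfsg.Agent.H684.EB Cfsg.Agent.H610.EB
open Cfsg.Agent.Blocks Cfsg.Agent.Blocks.LocalRing

universe u

/-! ### The criterion -/

section Crit

variable {G : Type u} [Group G]

/-- A rational-valued character is fixed by the power map. -/
theorem pow_of_rat [Finite G] {k : ℕ} (hk : IsK G k) {χ : G → ℂ} (hχ : IsCharacter G χ)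
    (hq : ∀ g, ∃ q : ℚ, χ g = q) (g : G) : χ (g ^ k) = χ g := by
  obtain ⟨σ, hσ⟩ := Cfsg.Agent.Characters.GaloisBasic.exists_ringEquiv_of_coprime hk.coprime
  rw [← hσ χ hχ g]
  obtain ⟨q, hq⟩ := hq g
  rw [hq]
  exact map_ratCast σ q

/-- If the index of the centralizer of every element `≠ 1` of odd order is divisible by `2 ^ a`, and `2 ^ a` divides
neither `1` nor the degree, then the character is in the principal block. -/
theorem mem_principal [Finite G] {M : Ideal AlgInt} (hM : IsPModular 2 M) {a : ℕ} (ha : a ≠ 0)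
    (hG : ∀ y : G, Odd (orderOf y) → y ≠ 1 → 2 ^ a ∣ (Subgroup.centralizer ({y} : Set G)).index)
    (χ : IrrCharacter G) (hd : ¬ 2 ^ a ∣ charDegree (χ : G → ℂ)) : χ ∈ principalBlock M G := by
  have h2 : Fact (Nat.Prime 2) := ⟨Nat.prime_two⟩
  have := Fintype.ofFinite G
  show SameBlock M (fun _ => (1 : ℂ)) (χ : G → ℂ)
  refine Cfsg.Agent.Blocks.PRegular.sameBlock_of_isPRegular hM Basic.isIrrCharacter_one χ.2 fun g hg => ?_
  have hodd : Odd (orderOf g) := by
    rw [← Nat.not_even_iff_odd, even_iff_two_dvd]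
    exact hg
  by_cases h1 : g = 1
  · subst h1
    have e : ∀ ψ : G → ℂ, IsIrrCharacter G ψ → centralChar ψ 1 = 1 := by
      intro ψ hψ
      rw [Basic.centralChar_def]
      have hc : Subgroup.centralizer ({(1 : G)} : Set G) = ⊤ := by
        rw [Subgroup.eq_top_iff']
        intro x
        rw [Subgroup.mem_centralizer_singleton_iff]
        rw [one_mul, mul_one]
      rw [hc, Subgroup.index_top, Nat.cast_one, one_mul]
      exact div_self (by
        rw [Basic.irr_one_eq_charDegree hψ]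
        exact_mod_cast (Basic.charDegree_pos hψ).ne')
    rw [e _ Basic.isIrrCharacter_one, e _ χ.2, sub_self]
    exact memLocalIdeal_zero hM
  · have key : ∀ ψ : IrrCharacter G, ¬ 2 ^ a ∣ charDegree (ψ : G → ℂ) →
        MemLocalIdeal M (centralChar (ψ : G → ℂ) g) := by
      intro ψ hψ
      by_contra hcon
      exact hψ (Cfsg.Agent.H652.Four.dvd_charDegree hM hcon (hG g hodd h1))
    refine memLocalIdeal_sub hM (key ⟨fun _ => 1, Basic.isIrrCharacter_one⟩ ?_) (key χ hd)
    have e1 : charDegree (((⟨fun _ => 1, Basic.isIrrCharacter_one⟩ : IrrCharacter G) : G → ℂ)) = 1 := by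
      have := Basic.irr_one_eq_charDegree (Basic.isIrrCharacter_one (G := G))
      exact_mod_cast this.symm
    rw [e1]
    intro h
    have := Nat.le_of_dvd one_pos h
    have := Nat.one_lt_two_pow ha
    omega

/-- The conclusion of S4522 from a rational character of low height. -/
theorem concl_of_rat [Fintype G] {N : Subgroup G} [N.Normal] [Fintype N] {M : Ideal AlgInt} (hM : IsPModular 2 M)
    {k : ℕ} (hk : IsK G k) {a d : ℕ} (ha : a ≠ 0)
    (hG : ∀ y : G, Odd (orderOf y) → y ≠ 1 → 2 ^ a ∣ (Subgroup.centralizer ({y} : Set G)).index)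
    {χ : G → ℂ} (hχ : IsIrrCharacter G χ) (hq : ∀ g, ∃ q : ℚ, χ g = q) (h1 : χ 1 = (d : ℕ)) (hd : Even d)
    (hda : ¬ 2 ^ a ∣ d) (hi : ¬ d ∣ N.index) : Concl M G N k := by
  have hdeg : charDegree χ = d := by
    have := Basic.irr_one_eq_charDegree hχ
    rw [h1] at this
    exact_mod_cast this.symm
  refine ⟨⟨χ, hχ⟩, mem_principal hM ha hG ⟨χ, hχ⟩ (by show ¬ 2 ^ a ∣ charDegree χ; rwa [hdeg]),
    by show Even (charDegree χ); rwa [hdeg],
    pow_of_rat hk (Cfsg.Agent.Characters.Core.isIrr_isCharacter hχ) hq, ?_⟩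
  by_contra hne
  obtain ⟨-, h⟩ := S0887.result N χ hχ (fun _ => 1) Basic.isIrrCharacter_one hne d 1 h1 (by simp)
  rw [Nat.div_one] at h
  exact hi h

/-- The index of the centralizer of an element of odd order of a normal subgroup of 2-power index. -/
theorem dvd_index {S : Type*} [Group S] [Finite S] {n m : ℕ} (hS : 2 ^ n ∣ Nat.card S)
    (hC : ∀ y : S, (orderOf y).Prime → orderOf y ≠ 2 → ¬ 2 ^ m ∣ Nat.card (Subgroup.centralizer ({y} : Set S)))
    [Finite G] (N : Subgroup G) [N.Normal] (e : S ≃* N) (hi : ∃ j : ℕ, N.index = 2 ^ j) (y : G)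
    (hy : Odd (orderOf y)) (h1 : y ≠ 1) :
    2 ^ (n + 1 - m) ∣ (Subgroup.centralizer ({y} : Set G)).index := by
  have hreg : IsPRegular 2 y := by
    intro h
    exact (Nat.not_even_iff_odd.2 hy) (even_iff_two_dvd.2 h)
  have hyN : y ∈ N := mem_of_isPRegular N hi Nat.prime_two hreg
  have hne : orderOf y ≠ 1 := fun h => h1 (orderOf_eq_one_iff.1 h)
  obtain ⟨p, hp, hpd⟩ := Nat.exists_prime_and_dvd hne
  have hp2 : p ≠ 2 := by
    rintro rfl
    exact hreg hpd
  obtain ⟨c, hc⟩ := hpd
  have hc0 : c ≠ 0 := by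
    rintro rfl
    have := orderOf_pos y
    omega
  have hz : orderOf (y ^ c) = p := by
    rw [orderOf_pow_of_dvd hc0 ⟨p, by rw [hc, mul_comm]⟩, hc, Nat.mul_div_cancel _ (Nat.pos_of_ne_zero hc0)]
  have hzN : y ^ c ∈ N := pow_mem hyN c
  have hle : Subgroup.centralizer ({y} : Set G) ≤ Subgroup.centralizer ({y ^ c} : Set G) := by
    intro x hx
    rw [Subgroup.mem_centralizer_singleton_iff] at hx ⊢
    exact (show Commute x y from hx).pow_right c
  refine dvd_trans ?_ (Subgroup.index_dvd_of_le hle)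
  -- the element of prime order
  obtain ⟨s, hs⟩ := e.surjective ⟨y ^ c, hzN⟩
  have hos : orderOf s = p := by
    rw [← e.orderOf_eq, hs, ← hz, ← Subgroup.orderOf_coe]
  have hcard : Nat.card (Subgroup.centralizer ({s} : Set S)) =
      Nat.card ((Subgroup.centralizer ({y ^ c} : Set G)).subgroupOf N) := by
    refine Nat.card_congr ⟨fun x => ⟨e x, ?_⟩, fun x => ⟨e.symm x, ?_⟩, fun x => ?_, fun x => ?_⟩
    · rw [Subgroup.mem_subgroupOf, Subgroup.mem_centralizer_singleton_iff]
      have h2 := (Subgroup.mem_centralizer_singleton_iff.1 x.2)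
      have h3 := congrArg (fun t => ((e t : N) : G)) h2
      simp only [map_mul, hs, Subgroup.coe_mul] at h3
      exact h3
    · rw [Subgroup.mem_centralizer_singleton_iff]
      apply e.injective
      rw [map_mul, map_mul, hs, MulEquiv.apply_symm_apply]
      have h2 := x.2
      rw [Subgroup.mem_subgroupOf, Subgroup.mem_centralizer_singleton_iff] at h2
      exact Subtype.ext h2
    · apply Subtype.ext
      exact e.symm_apply_apply _
    · apply Subtype.ext
      exact e.apply_symm_apply _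
  have hn := hC s (by rw [hos]; exact hp) (by rw [hos]; exact hp2)
  rw [hcard] at hn
  have hN : 2 ^ n ∣ Nat.card N := by rwa [← Nat.card_congr e.toEquiv]
  have hmul := Subgroup.card_mul_index ((Subgroup.centralizer ({y ^ c} : Set G)).subgroupOf N)
  have hd1 : 2 ^ (n + 1 - m) ∣ ((Subgroup.centralizer ({y ^ c} : Set G)).subgroupOf N).index := by
    have hf2 : Fact (Nat.Prime 2) := ⟨Nat.prime_two⟩
    have hi0 : ((Subgroup.centralizer ({y ^ c} : Set G)).subgroupOf N).index ≠ 0 :=
      Subgroup.index_ne_zero_of_finite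
    have hk0 : Nat.card ((Subgroup.centralizer ({y ^ c} : Set G)).subgroupOf N) ≠ 0 := Nat.card_pos.ne'
    rw [padicValNat_dvd_iff_le hi0]
    rw [padicValNat_dvd_iff_le hk0, not_le] at hn
    rw [← hmul, padicValNat_dvd_iff_le (mul_ne_zero hk0 hi0), padicValNat.mul hk0 hi0] at hN
    omega
  refine dvd_trans hd1 ?_
  -- the class length in the normal subgroup divides the class length
  have hA := Subgroup.relIndex_mul_index (inf_le_left : (Subgroup.centralizer ({y ^ c} : Set G)) ⊓ N ≤ _)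
  have hB := Subgroup.relIndex_mul_index (inf_le_right : (Subgroup.centralizer ({y ^ c} : Set G)) ⊓ N ≤ _)
  rw [Subgroup.inf_relIndex_left] at hA
  rw [Subgroup.inf_relIndex_right] at hB
  obtain ⟨r, hr⟩ := Subgroup.relIndex_dvd_index_of_normal N (Subgroup.centralizer ({y ^ c} : Set G))
  have hr0 : N.relIndex (Subgroup.centralizer ({y ^ c} : Set G)) ≠ 0 := by
    intro h
    rw [h, zero_mul] at hr
    exact Subgroup.index_ne_zero_of_finite hr
  refine ⟨r, Nat.eq_of_mul_eq_mul_left (Nat.pos_of_ne_zero hr0) ?_⟩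
  rw [hA, ← hB, hr]
  show _ = _ * ((Subgroup.centralizer ({y ^ c} : Set G)).relIndex N * r)
  ring

end Crit

/-! ### The character of degree 680 -/

section Chr

open Cfsg.Spor Cfsg.Spor.He Cfsg.Agent.SporadicB.HePerm Cfsg.Agent.H636.Gow Cfsg.Agent.H707.Odd
open Cfsg.Agent.S1683 (K_eq_St St map_K exists_map_zero word_mem)
open Cfsg.Agent.H707.Odd.He

attribute [local instance] Cfsg.Agent.H707.Odd.He.instActHe

/-- the eigenvector of the constituent of degree 680 -/
def a680 : Fin 5 → ℚ := ![1, -13 / 680, 1 / 85, 5 / 68, 5 / 68]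

theorem hBa680 : ∀ i, ∑ j, (B i j : ℚ) * a680 j = 10 * a680 i := by decide +kernel

theorem hsum680 : (680 : ℚ) * ∑ i, (Cfsg.Agent.H707.Odd.He.k i : ℚ) * a680 i ^ 2 = 2058 := by decide +kernel

theorem huniq680 (a' : Fin 5 → ℚ) (h : ∀ i, ∑ j, (B i j : ℚ) * a' j = 10 * a' i) (i : Fin 5) :
    a' i = a' 0 * a680 i := by
  have h0 := h 0
  have h1 := h 1
  have h2 := h 2
  have h3 := h 3
  have h4 := h 4
  simp only [B, Fin.sum_univ_five, Matrix.cons_val] at h0 h1 h2 h3 h4
  norm_num at h0 h1 h2 h3 h4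
  fin_cases i
  · show a' 0 = a' 0 * 1
    rw [mul_one]
  · show a' 1 = a' 0 * (-13 / 680)
    linarith
  · show a' 2 = a' 0 * (1 / 85)
    linarith
  · show a' 3 = a' 0 * (5 / 68)
    linarith
  · show a' 4 = a' 0 * (5 / 68)
    linarith

/-- **The Held group has a rational irreducible character of degree 680.** -/
theorem irr_He680 : ∃ χ : Cfsg.Spor.He → ℂ, IsIrrCharacter Cfsg.Spor.He χ ∧ (∀ g, ∃ q : ℚ, χ g = q) ∧
    χ 1 = (680 : ℕ) := by
  obtain ⟨hfin, -⟩ := Cfsg.Agent.SporadicB.HeUpper.card_he_le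
  refine Cfsg.Agent.H710.R4.Sph.irr_of_orbital (0 : Fin 2058) cls r ?_ ?_ 3 (fun i => wd (w i)) w_smul B hB a680 10
    hBa680 ?_ ?_ ?_ Cfsg.Agent.H707.Odd.He.k hk 680 ?_
  · intro g hg x
    have h1 := mem_K hg
    rw [map_K] at h1
    exact Fin.ext (lab_closure h1 x)
  · intro x
    obtain ⟨p, hp, hpx⟩ := reach_sub (lab x) (lab_lt x) (S1683.K.map phi) (fun w hw => word_mem hw) x
      ((mem_sub _ (lab_lt x) x).2 rfl)
    obtain ⟨g, hg, rfl⟩ := hp
    refine ⟨g, ?_, ?_⟩
    · rw [SetLike.mem_coe, K_eq_St] at hg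
      exact hg
    · rw [smul_eq, ← root_eq]
      exact hpx
  · intro a' h i
    rw [cls_zero]
    exact huniq680 a' h i
  · rw [cls_zero]
    rfl
  · intro x y
    obtain ⟨g, hg⟩ := exists_map_zero x
    obtain ⟨h, hh⟩ := exists_map_zero y
    refine ⟨h * g⁻¹, ?_⟩
    rw [mul_smul, smul_eq h, ← hg, ← smul_eq g, inv_smul_smul]
    exact hh
  · rw [Fintype.card_fin]
    exact_mod_cast hsum680

end Chr

/-! ### The row -/

/-- transport along an isomorphism -/
theorem exists_of_equiv {H G : Type*} [Group H] [Group G] (E : H ≃* G) {d : ℕ}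
    (h : ∃ χ : H → ℂ, IsIrrCharacter H χ ∧ (∀ g, ∃ q : ℚ, χ g = q) ∧ χ 1 = (d : ℕ)) :
    ∃ χ : G → ℂ, IsIrrCharacter G χ ∧ (∀ g, ∃ q : ℚ, χ g = q) ∧ χ 1 = (d : ℕ) := by
  obtain ⟨χ, hχ, hq, h1⟩ := h
  refine ⟨fun g => χ (E.symm g), Cfsg.Agent.Characters.Core.isIrr_comp E.symm.toMonoidHom E.symm.surjective hχ,
    fun g => hq _, ?_⟩
  show χ (E.symm 1) = _
  rw [map_one, h1]

open Cfsg.Agent.H710.R4 Cfsg.Agent.H710.R4.HeA Cfsg.Agent.H619.R4

/-- **S4522, the Held group.** -/
theorem evenB_he {S : Type u} [Group S] (h : Spor.IsoHe S) : EvenB S := by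
  intro G _ _ N _ _ ⟨e⟩ hC hidx k hk M hM
  obtain ⟨f⟩ := h
  obtain ⟨hfin, -⟩ := Cfsg.Agent.SporadicB.HeUpper.card_he_le
  have hi : (MulAut.conj : Spor.He →* MulAut Spor.He).range.index ≤ 2 := by
    rcases KFacts.He.Outer.index_le_two (K := Spor.He) ⟨MulEquiv.refl _⟩ with h1 | h1
    · rw [h1]; norm_num
    · rw [h1]
  have hN : N.index ≤ 2 := index_le_of_equiv N (f.symm.trans e) hC hi
  have hpos : N.index ≠ 0 := Subgroup.index_ne_zero_of_finite
  have hcase : N.index = 1 ∨ N.index = 2 := by omega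
  have hchar : ∃ χ : G → ℂ, IsIrrCharacter G χ ∧ (∀ g, ∃ q : ℚ, χ g = q) ∧ χ 1 = (680 : ℕ) := by
    rcases hcase with h1 | h1
    · have htop : N = ⊤ := Subgroup.index_eq_one.1 h1
      let E : Spor.He ≃* G := (f.symm.trans e).trans ((MulEquiv.subgroupCongr htop).trans Subgroup.topEquiv)
      exact exists_of_equiv E irr_He680
    · obtain ⟨E, hE⟩ := exists_equiv hi Nh eHe index_Nh cent_Nh N (f.symm.trans e) h1 hC
      exact exists_of_equiv E irr1
  obtain ⟨χ, hχ, hq, h1⟩ := hchar
  refine concl_of_rat hM hk (a := 7) (d := 680) (by norm_num) ?_ hχ hq h1 (by decide) (by norm_num) ?_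
  · intro y hy hy1
    have h2 := dvd_index (S := Spor.He) (n := 10) (m := 4) (by rw [H394.PBHe.card_he]; norm_num)
      (fun y hy h2 => H394.PBHe.not_dvd_two y hy h2) N (f.symm.trans e) hidx y hy hy1
    simpa using h2
  · intro hd
    have := Nat.le_of_dvd (Nat.pos_of_ne_zero hpos) hd
    omega

end Cfsg.Agent.H84.EB
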